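import Groth.Agent.LenLib.Index
import Groth.Agent.LenLib.Localized
import Mathlib.RingTheory.Ideal.AssociatedPrime.Finiteness
import Mathlib.RingTheory.HopkinsLevitzki
import Mathlib.RingTheory.Ideal.KrullsHeightTheorem
import Mathlib.RingTheory.Localization.LocalizationLocalization
import Mathlib.Tactic.Ring

/-!
# The one-dimensional multiplicity bound

For a Noetherian local ring `A` and `g` in the maximal ideal which is contained in no other
prime, the sum over non-maximal primes `P` of `length A_P` is at most `length A/gA`.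
-/

set_option autoImplicit false
set_option linter.style.haveILetI false
universe u

namespace Groth.Agent.MultBound

open Groth.Agent.LenLib

/-- The self-length of a ring does not depend on its presentation. -/
theorem length_self_congr {S T : Type u} [CommRing S] [CommRing T] (e : S ≃+* T) :
    Module.length S S = Module.length T T := by
  letI := e.toRingHom.toAlgebra
  rw [← Module.length_eq_of_surjective (R := T) (S := S) (M := T) e.surjective]
  exact (LinearEquiv.ofBijective (Algebra.linearMap S T) e.bijective).length_eq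

/-- A quotient of `R` and its length over `R` or over itself. -/
theorem length_self_eq_quot_ker {S T : Type u} [CommRing S] [CommRing T] (φ : S →+* T)
    (hφ : Function.Surjective φ) :
    Module.length T T = Module.length S (S ⧸ RingHom.ker φ) := by
  letI := φ.toAlgebra
  rw [← Module.length_eq_of_surjective (R := T) (S := S) (M := T) hφ]
  exact (((Algebra.linearMap S T).quotKerEquivOfSurjective hφ)).length_eq.symm

variable {A : Type u} [CommRing A] [IsNoetherianRing A] [IsLocalRing A]

/-- Multiplication by `g` on a module. -/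
noncomputable abbrev mulMap (g : A) (M : Type u) [AddCommGroup M] [Module A M] : M →ₗ[A] M :=
  LinearMap.lsmul A M g

theorem length_quot_ne_top {g : A}
    (hmax : ∀ Q : Ideal A, Q.IsPrime → g ∈ Q → Q = IsLocalRing.maximalIdeal A)
    (p : Ideal A) (hg : g ∈ p) : Module.length A (A ⧸ p) ≠ ⊤ := by
  haveI : Ring.KrullDimLE 0 (A ⧸ p) := Ring.KrullDimLE.mk₀ fun Q hQ => by
    haveI := hQ
    have h1 := hmax (Q.comap (Ideal.Quotient.mk p)) inferInstance
      (by rw [Ideal.mem_comap, Ideal.Quotient.eq_zero_iff_mem.2 hg]; exact Q.zero_mem)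
    rw [← Ideal.map_comap_of_surjective _ Ideal.Quotient.mk_surjective Q, h1]
    exact (Ideal.map_eq_top_or_isMaximal_of_surjective _ Ideal.Quotient.mk_surjective
      (IsLocalRing.maximalIdeal.isMaximal A)).resolve_left (fun htop => hQ.ne_top (by
        rw [← Ideal.map_comap_of_surjective _ Ideal.Quotient.mk_surjective Q, h1, htop]))
  haveI : IsArtinianRing (A ⧸ p) := isArtinianRing_iff_krullDimLE_zero.2 inferInstance
  rw [Module.length_eq_of_surjective (R := A ⧸ p) Ideal.Quotient.mk_surjective]
  exact Module.length_ne_top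

theorem bound_module {g : A} (hg : g ∈ IsLocalRing.maximalIdeal A)
    (hmax : ∀ Q : Ideal A, Q.IsPrime → g ∈ Q → Q = IsLocalRing.maximalIdeal A)
    (S : Finset (PrimeSpectrum A)) (hS : ∀ P ∈ S, P.asIdeal ≠ IsLocalRing.maximalIdeal A)
    (M : Type u) [AddCommGroup M] [Module A M] [Module.Finite A M] :
    (∀ P ∈ S, Module.length (Localization P.asIdeal.primeCompl)
        (LocalizedModule P.asIdeal.primeCompl M) ≠ ⊤) ∧
      HasIndex (mulMap g M) ∧
      ∑ P ∈ S, lenZ (Localization P.asIdeal.primeCompl) (LocalizedModule P.asIdeal.primeCompl M) ≤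
        index (mulMap g M) := by
  classical
  induction ‹Module.Finite A M› using IsNoetherianRing.induction_on_isQuotientEquivQuotientPrime with
  | subsingleton N =>
    refine ⟨fun P _ => by simp [Module.length_eq_zero], hasIndex_of_bijective ?_, ?_⟩
    · exact ⟨fun _ _ _ => Subsingleton.elim _ _, fun y => ⟨y, Subsingleton.elim _ _⟩⟩
    · rw [index_of_bijective (f := mulMap g N)
        ⟨fun _ _ _ => Subsingleton.elim _ _, fun y => ⟨y, Subsingleton.elim _ _⟩⟩]
      simp [lenZ, Module.length_eq_zero]
  | quotient N p e =>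
    obtain ⟨p, hp⟩ := p
    simp only at e
    have hle : ∀ P ∈ S, p ≤ P.asIdeal → P.asIdeal = p := by
      intro P hP hpP
      by_contra hne
      have hlt : p < P.asIdeal := lt_of_le_of_ne hpP (Ne.symm hne)
      have hlt' : P.asIdeal < IsLocalRing.maximalIdeal A :=
        lt_of_le_of_ne (IsLocalRing.le_maximalIdeal P.2.ne_top) (hS P hP)
      have hm : IsLocalRing.maximalIdeal A ∈ (Ideal.span {g}).minimalPrimes :=
        ⟨⟨inferInstance, (Ideal.span_singleton_le_iff_mem _).2 hg⟩, fun Q hQ _ =>
          (hmax Q hQ.1 (hQ.2 (Ideal.mem_span_singleton_self g))).ge⟩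
      have h1 := Ideal.height_le_one_of_isPrincipal_of_mem_minimalPrimes _ _ hm
      have h2 := Ideal.height_add_one_le_of_lt_of_isPrime hlt'
      have h3 := Ideal.height_add_one_le_of_lt_of_isPrime hlt
      have h4 : (p.height + 1) + 1 ≤ 1 := ((add_le_add h3 le_rfl).trans h2).trans h1
      exact absurd ((add_le_add (add_le_add (zero_le : (0 : ℕ∞) ≤ p.height) le_rfl) le_rfl).trans h4)
        (by decide)
    have hloc : ∀ P ∈ S, lenZ (Localization P.asIdeal.primeCompl) (LocalizedModule P.asIdeal.primeCompl N) =
        (if P.asIdeal = p then 1 else 0) ∧ Module.length (Localization P.asIdeal.primeCompl)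
          (LocalizedModule P.asIdeal.primeCompl N) ≠ ⊤ := by
      intro P hP
      by_cases h : P.asIdeal = p
      · subst h
        rw [if_pos rfl]
        unfold lenZ
        rw [length_localized_quotient_eq_one _ e]
        exact ⟨rfl, by simp⟩
      · rw [if_neg h]
        unfold lenZ
        rw [length_localized_quotient_eq_zero _ _ e (fun hle' => h (hle P hP hle'))]
        exact ⟨rfl, by simp⟩
    refine ⟨fun P hP => (hloc P hP).2, ?_⟩
    by_cases hgp : g ∈ p
    · have hfin : Module.length A N ≠ ⊤ := by rw [e.length_eq]; exact length_quot_ne_top hmax p hgp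
      refine ⟨hasIndex_of_finite hfin hfin, ?_⟩
      rw [index_of_finite hfin hfin, sub_self]
      refine le_of_eq (Finset.sum_eq_zero fun P hP => ?_)
      rw [(hloc P hP).1, if_neg]
      exact fun h => hS P hP (h ▸ hmax p hp hgp)
    · have hinj : Function.Injective (mulMap g N) := by
        rw [injective_iff_map_eq_zero]
        intro x hx
        apply e.injective
        obtain ⟨a, ha⟩ := Ideal.Quotient.mk_surjective (e x)
        have h2 : g • e x = 0 := by rw [← map_smul, show g • x = 0 from hx, map_zero]
        rw [← ha, Algebra.smul_def, Ideal.Quotient.algebraMap_eq, ← map_mul,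
          Ideal.Quotient.eq_zero_iff_mem] at h2
        rw [map_zero, ← ha, Ideal.Quotient.eq_zero_iff_mem]
        exact (hp.mem_or_mem h2).resolve_left hgp
      let q : N →ₗ[A] A ⧸ (p ⊔ Ideal.span {g}) :=
        Submodule.factor (le_sup_left (a := p)) ∘ₗ e.toLinearMap
      have hq : Function.Surjective q :=
        (Submodule.factor_surjective (le_sup_left (a := p) (b := Ideal.span {g}))).comp e.surjective
      have hkq : LinearMap.ker q = LinearMap.range (mulMap g N) := by
        ext x
        obtain ⟨a, ha⟩ := Submodule.Quotient.mk_surjective p (e x)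
        rw [LinearMap.mem_ker]
        show Submodule.factor (le_sup_left (a := p) (b := Ideal.span {g})) (e x) = 0 ↔ _
        rw [← ha]; show Submodule.Quotient.mk a = 0 ↔ _; rw [Submodule.Quotient.mk_eq_zero]
        constructor
        · intro hx
          obtain ⟨b, hb, c, hc, rfl⟩ := Submodule.mem_sup.1 hx
          obtain ⟨d, rfl⟩ := Ideal.mem_span_singleton'.1 hc
          refine ⟨e.symm (Submodule.Quotient.mk d), e.injective ?_⟩
          show e (g • _) = _
          rw [map_smul, e.apply_symm_apply, ← ha, ← Submodule.Quotient.mk_smul, Submodule.Quotient.eq,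
            smul_eq_mul, show g * d - (b + d * g) = -b by ring]
          exact p.neg_mem hb
        · rintro ⟨y, rfl⟩
          obtain ⟨b, hb⟩ := Submodule.Quotient.mk_surjective p (e y)
          rw [show e (mulMap g N y) = g • e y from map_smul e g y, ← hb, ← Submodule.Quotient.mk_smul,
            Submodule.Quotient.eq] at ha
          have : a = (a - g • b) + g * b := by rw [smul_eq_mul]; ring
          rw [this]
          exact add_mem (Submodule.mem_sup_left ha) (Submodule.mem_sup_right
            (Ideal.mul_mem_right _ _ (Ideal.mem_span_singleton_self g)))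
      have hcoker : Module.length A (N ⧸ LinearMap.range (mulMap g N)) =
          Module.length A (A ⧸ (p ⊔ Ideal.span {g})) :=
        ((Submodule.quotEquivOfEq _ _ hkq.symm).trans (q.quotKerEquivOfSurjective hq)).length_eq
      have hne : Module.length A (N ⧸ LinearMap.range (mulMap g N)) ≠ ⊤ := by
        rw [hcoker]
        exact length_quot_ne_top hmax _ (Submodule.mem_sup_right (Ideal.mem_span_singleton_self g))
      haveI : Subsingleton (LinearMap.ker (mulMap g N)) := by
        rw [Submodule.subsingleton_iff_eq_bot]; exact LinearMap.ker_eq_bot.2 hinj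
      refine ⟨⟨by simp [Module.length_eq_zero], hne⟩, ?_⟩
      rw [index_of_injective hinj, Finset.sum_congr rfl fun P hP => (hloc P hP).1, Finset.sum_boole]
      have hcard : (S.filter fun P => P.asIdeal = p).card ≤ 1 :=
        Finset.card_le_one.2 fun P hP Q hQ =>
          PrimeSpectrum.ext ((Finset.mem_filter.1 hP).2.trans (Finset.mem_filter.1 hQ).2.symm)
      have hpos : 1 ≤ (Module.length A (N ⧸ LinearMap.range (mulMap g N))).toNat := by
        haveI : Nontrivial (A ⧸ (p ⊔ Ideal.span {g})) := Ideal.Quotient.nontrivial_iff.2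
          (ne_top_of_le_ne_top (IsLocalRing.maximalIdeal.isMaximal A).ne_top
            (sup_le (IsLocalRing.le_maximalIdeal hp.ne_top) ((Ideal.span_singleton_le_iff_mem _).2 hg)))
        rw [Nat.one_le_iff_ne_zero, ne_eq, ENat.toNat_eq_zero, hcoker]
        rw [hcoker] at hne
        rintro (h | h)
        · exact Module.length_pos.ne' h
        · exact hne h
      unfold lenZ
      exact_mod_cast hcard.trans hpos
  | exact N₁ N₂ N₃ f₁ f₂ hf hf₂ hfg h₁ h₃ =>
    obtain ⟨ih₁, hi₁, hs₁⟩ := h₁
    obtain ⟨ih₃, hi₃, hs₃⟩ := h₃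
    have hadd := fun P : PrimeSpectrum A => length_localized_add P.asIdeal.primeCompl f₁ f₂ hf hf₂ hfg
    obtain ⟨hi₂, hidx⟩ := hasIndex_index_of_ladder (i₁ := mulMap g N₁) (i₂ := mulMap g N₂)
      (i₃ := mulMap g N₃) hf hfg hf₂ hf hfg hf₂ (LinearMap.ext fun x => map_smul f₁ g x)
      (LinearMap.ext fun x => map_smul f₂ g x) hi₁ hi₃
    refine ⟨fun P hP => by rw [hadd P]; exact WithTop.add_ne_top.2 ⟨ih₁ P hP, ih₃ P hP⟩, hi₂, ?_⟩
    rw [hidx]
    refine le_of_eq_of_le ?_ (add_le_add hs₁ hs₃)
    rw [← Finset.sum_add_distrib]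
    refine Finset.sum_congr rfl fun P hP => ?_
    unfold lenZ
    rw [hadd P, ENat.toNat_add (ih₁ P hP) (ih₃ P hP)]
    push_cast
    rfl

/-- The one-dimensional multiplicity bound. -/
theorem sum_length_le {g : A} (hg : g ∈ IsLocalRing.maximalIdeal A)
    (hmax : ∀ Q : Ideal A, Q.IsPrime → g ∈ Q → Q = IsLocalRing.maximalIdeal A)
    (S : Finset (PrimeSpectrum A)) (hS : ∀ P ∈ S, P.asIdeal ≠ IsLocalRing.maximalIdeal A) :
    ∑ P ∈ S, Module.length (Localization.AtPrime P.asIdeal) (Localization.AtPrime P.asIdeal) ≤
      Module.length A (A ⧸ Ideal.span {g}) := by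
  obtain ⟨hfin, hidx, hle⟩ := bound_module hg hmax S hS A
  have hrange : LinearMap.range (mulMap g A) = Ideal.span {g} := by
    ext x
    rw [LinearMap.mem_range, Ideal.mem_span_singleton']
    exact ⟨fun ⟨y, hy⟩ => ⟨y, (mul_comm y g).trans hy⟩, fun ⟨y, hy⟩ => ⟨y, (mul_comm g y).trans hy⟩⟩
  have hq := (Submodule.quotEquivOfEq _ _ hrange).length_eq
  have hcok : index (mulMap g A) ≤ (Module.length A (A ⧸ Ideal.span {g})).toNat := by
    unfold index lenZ
    rw [hq]
    omega
  have hne : Module.length A (A ⧸ Ideal.span {g}) ≠ ⊤ := hq ▸ hidx.2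
  have key : ∀ P ∈ S, Module.length (Localization.AtPrime P.asIdeal) (Localization.AtPrime P.asIdeal) =
      ((Module.length (Localization P.asIdeal.primeCompl)
        (LocalizedModule P.asIdeal.primeCompl A)).toNat : ℕ∞) := fun P hP =>
    (ENat.natCast_toNat (hfin P hP)).symm
  rw [Finset.sum_congr rfl key, ← ENat.natCast_toNat hne, ← Nat.cast_sum]
  have : ((∑ P ∈ S, (Module.length (Localization P.asIdeal.primeCompl)
      (LocalizedModule P.asIdeal.primeCompl A)).toNat : ℕ) : ℤ) ≤
      ((Module.length A (A ⧸ Ideal.span {g})).toNat : ℤ) := by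
    push_cast
    exact hle.trans hcok
  exact_mod_cast this

end Groth.Agent.MultBound
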